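import Groth.Prelude.Def_EtCech
import Groth.Agent.Lib.EtSite.Sheaf
import Mathlib.AlgebraicGeometry.Limits
import Mathlib.CategoryTheory.Limits.Shapes.ConcreteCategory

/-!
# The Čech complex of a finite family and of its disjoint union
-/

universe u

set_option maxHeartbeats 800000
set_option backward.isDefEq.respectTransparency false
set_option backward.isDefEq.respectTransparency.types false

open CategoryTheory CategoryTheory.Limits AlgebraicGeometry Opposite
open Groth.Agent.EtSite

namespace Groth.Agent.CechUnion24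

variable {X : Scheme.{u}} (F : EtCoh.Ab X)

theorem isSheafFor {W : X.Etale} {S : Sieve W} (hS : S ∈ X.smallEtaleTopology W) :
    Presieve.IsSheafFor (F.obj ⋙ forget AddCommGrpCat.{u + 1}) (S : Presieve W) :=
  ((isSheaf_iff_isSheaf_of_type _ _).1
    ((Presheaf.isSheaf_iff_isSheaf_forget _ F.obj (forget AddCommGrpCat.{u + 1})).1 F.property)) _ hS

theorem subsingleton_empty (Z : X.Etale) [IsEmpty Z.left] : Subsingleton (F.obj.obj (op Z)) :=
  ⟨fun a b => (isSheafFor F ((mem_et_iff Z ⊥).2 fun z => isEmptyElim z)).isSeparatedFor.ext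
    (t₁ := a) (t₂ := b) fun _ _ hf => False.elim hf⟩

/-- Sections on a finite disjoint union are families of sections. -/
theorem bijective_pi {W : X.Etale} {κ : Type*} {Z : κ → X.Etale} (q : ∀ x, Z x ⟶ W)
    (hopen : ∀ x, IsOpenImmersion (q x).left)
    (hdisj : ∀ x y a b, (q x).left a = (q y).left b → x = y)
    (hcov : ∀ w : W.left, ∃ x a, (q x).left a = w) :
    Function.Bijective fun (s : F.obj.obj (op W)) x => F.obj.map (q x).op s := by
  have hS : Sieve.ofArrows Z q ∈ X.smallEtaleTopology W := by
    rw [mem_et_iff]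
    intro w
    obtain ⟨x, a, ha⟩ := hcov w
    exact ⟨_, q x, a, Sieve.ofArrows_mk _ _ x, ha⟩
  have hsh := isSheafFor F hS
  refine ⟨fun s t h => hsh.isSeparatedFor.ext ?_, fun t => ?_⟩
  · rintro Y g ⟨Z', c, g', hg', rfl⟩
    obtain ⟨x⟩ := hg'
    show F.obj.map _ s = F.obj.map _ t
    rw [op_comp, Functor.map_comp_apply, Functor.map_comp_apply]
    exact congrArg _ (congrFun h x)
  · rw [← Presieve.isSheafFor_iff_generate] at hsh
    have hcompat : Presieve.Arrows.Compatible (F.obj ⋙ forget AddCommGrpCat.{u + 1}) q t := by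
      intro x y Y a b hab
      by_cases hxy : x = y
      · subst hxy
        haveI := hopen x
        have : a = b := MorphismProperty.Over.Hom.ext ((cancel_mono (q x).left).1
          (congrArg (fun r : Y ⟶ W => r.left) hab))
        rw [this]
      · haveI : IsEmpty Y.left := ⟨fun z => hxy (hdisj x y (a.left z) (b.left z)
          (congrArg (fun r : Y ⟶ W => r.left z) hab))⟩
        exact (subsingleton_empty F Y).elim _ _
    obtain ⟨s, hs, -⟩ := (Presieve.isSheafFor_arrows_iff _ _).1 hsh t hcompat
    exact ⟨s, funext hs⟩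

variable {U : X.Etale} {ι : Type (u + 1)} [Finite ι] {Uf : ι → Over U} {V : Over U} (incl : ∀ i, Uf i ⟶ V)

theorem incl_facts (hV : IsColimit (Cofan.mk V.left.left fun i => (incl i).left.left)) :
    (∀ i, IsOpenImmersion (incl i).left.left) ∧
      (∀ i j a b, (incl i).left.left a = (incl j).left.left b → i = j) ∧
      (∀ v : V.left.left, ∃ i a, (incl i).left.left a = v) := by
  let g : ι → Scheme.{u} := fun i => (Uf i).left.left
  let e : ∐ g ≅ V.left.left := (coproductIsCoproduct g).coconePointUniqueUpToIso hV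
  have he : ∀ i, Sigma.ι g i ≫ e.hom = (incl i).left.left := fun i =>
    (coproductIsCoproduct g).comp_coconePointUniqueUpToIso_hom hV ⟨i⟩
  refine ⟨fun i => ?_, fun i j a b h => ?_, fun v => ?_⟩
  · rw [← he i]
    infer_instance
  · rw [← he i, ← he j, Scheme.Hom.comp_apply, Scheme.Hom.comp_apply] at h
    by_contra hij
    exact Set.disjoint_left.1 (TopologicalSpace.Opens.coe_disjoint.2 (disjoint_opensRange_sigmaι g i j hij))
      ⟨a, rfl⟩ ⟨b, (e.hom.isOpenEmbedding.injective h).symm⟩
  · obtain ⟨i, a, ha⟩ := (sigmaOpenCover g).exists_eq (e.inv v)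
    refine ⟨i, a, ?_⟩
    rw [← he i, Scheme.Hom.comp_apply]
    show e.hom ((sigmaOpenCover g).f i a) = v
    rw [ha, ← Scheme.Hom.comp_apply, e.inv_hom_id]
    rfl

variable [HasFiniteProducts (Over U)] (α : Type) [Finite α]

/-- The product of the inclusions. -/
noncomputable abbrev prodIncl (x : α → ι) : (∏ᶜ fun a => Uf (x a)) ⟶ ∏ᶜ fun _ : α => V :=
  Limits.Pi.map fun a => incl (x a)

theorem prodIncl_facts (hV : IsColimit (Cofan.mk V.left.left fun i => (incl i).left.left)) :
    (∀ x, IsOpenImmersion (prodIncl incl α x).left.left) ∧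
      (∀ x y a b, (prodIncl incl α x).left.left a = (prodIncl incl α y).left.left b → x = y) ∧
      (∀ w, ∃ x a, (prodIncl incl α x).left.left a = w) := by
  obtain ⟨hopen, hdisj, hcov⟩ := incl_facts incl hV
  haveI := hopen
  let W : Over U := ∏ᶜ fun _ : α => V
  let π : α → (W.left.left ⟶ V.left.left) := fun a => (Limits.Pi.π (fun _ : α => V) a).left.left
  have hval : ∀ x a z, π a ((prodIncl incl α x).left.left z) =
      (incl (x a)).left.left ((Limits.Pi.π (fun b => Uf (x b)) a).left.left z) := fun x a z => by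
    have := congrArg (fun r : (∏ᶜ fun b => Uf (x b)) ⟶ V => r.left.left z)
      (Limits.Pi.map_π (fun b => incl (x b)) a)
    exact this
  let O : (α → ι) → W.left.left.Opens := fun x =>
    ⟨⋂ a, π a ⁻¹' Set.range (incl (x a)).left.left,
      isOpen_iInter_of_finite fun a => (incl (x a)).left.left.isOpenEmbedding.isOpen_range.preimage (π a).continuous⟩
  have key : ∀ x, IsOpenImmersion (prodIncl incl α x).left.left ∧
      Set.range (prodIncl incl α x).left.left = (O x : Set W.left.left) := by
    intro x
    let S : Over U := Over.mk (subHom W.left (O x) ≫ W.hom)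
    let s : S ⟶ W := Over.homMk (subHom W.left (O x)) rfl
    have hr : ∀ a, Set.range ((O x).ι ≫ π a) ⊆ Set.range (incl (x a)).left.left := by
      rintro a _ ⟨z, rfl⟩
      exact Set.mem_iInter.1 z.2 a
    have hw : ∀ a, IsOpenImmersion.lift (incl (x a)).left.left ((O x).ι ≫ π a) (hr a) ≫ (Uf (x a)).left.hom =
        (sub W.left (O x)).hom := fun a => by
      rw [← MorphismProperty.Over.w (incl (x a)).left, IsOpenImmersion.lift_fac_assoc, Category.assoc]
      exact congrArg ((O x).ι ≫ ·) (MorphismProperty.Over.w (Limits.Pi.π (fun _ : α => V) a).left)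
    let m : ∀ a, (sub W.left (O x)) ⟶ (Uf (x a)).left := fun a => MorphismProperty.Over.homMk _ (hw a)
    have hm : ∀ a, m a ≫ (incl (x a)).left = subHom W.left (O x) ≫ (Limits.Pi.π (fun _ : α => V) a).left := fun a =>
      MorphismProperty.Over.Hom.ext (IsOpenImmersion.lift_fac _ _ (hr a))
    let r : S ⟶ ∏ᶜ fun b => Uf (x b) := Limits.Pi.lift fun a => Over.homMk (m a) (by
      show m a ≫ (Uf (x a)).hom = subHom W.left (O x) ≫ W.hom
      rw [← Over.w (incl (x a)), ← Category.assoc, hm a, Category.assoc, Over.w])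
    have hrs : r ≫ prodIncl incl α x = s := by
      refine Limits.Pi.hom_ext _ _ fun a => ?_
      rw [Category.assoc, Limits.Pi.map_π, Limits.Pi.lift_π_assoc]
      exact Over.OverMorphism.ext (hm a)
    have hZ : Set.range (prodIncl incl α x).left.left ⊆ Set.range (O x).ι := by
      rw [(O x).range_ι]
      rintro _ ⟨z, rfl⟩
      exact Set.mem_iInter.2 fun a => ⟨_, (hval x a z).symm⟩
    have hlw : IsOpenImmersion.lift (O x).ι (prodIncl incl α x).left.left hZ ≫ (sub W.left (O x)).hom =
        (∏ᶜ fun b => Uf (x b)).left.hom := by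
      show _ ≫ (O x).ι ≫ W.left.hom = _
      rw [IsOpenImmersion.lift_fac_assoc]
      exact MorphismProperty.Over.w (prodIncl incl α x).left
    let l₀ : (∏ᶜ fun b => Uf (x b)).left ⟶ sub W.left (O x) := MorphismProperty.Over.homMk _ hlw
    have hl₀ : l₀ ≫ subHom W.left (O x) = (prodIncl incl α x).left :=
      MorphismProperty.Over.Hom.ext (IsOpenImmersion.lift_fac _ _ hZ)
    let l : (∏ᶜ fun b => Uf (x b)) ⟶ S := Over.homMk l₀ (by
      show l₀ ≫ subHom W.left (O x) ≫ W.hom = _
      rw [← Category.assoc, hl₀, Over.w])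
    have hls : l ≫ s = prodIncl incl α x := Over.OverMorphism.ext hl₀
    haveI : Mono s := ⟨fun {T} f g h => Over.OverMorphism.ext (MorphismProperty.Over.Hom.ext
      ((cancel_mono (O x).ι).1 (congrArg (fun q : T ⟶ W => q.left.left) h)))⟩
    have hmono : ∀ a, Mono (incl (x a)) := fun a => ⟨fun {T} f g h => Over.OverMorphism.ext
      (MorphismProperty.Over.Hom.ext ((cancel_mono (incl (x a)).left.left).1
        (congrArg (fun q : T ⟶ V => q.left.left) h)))⟩
    haveI : Mono (prodIncl incl α x) := ⟨fun {T} f g h => Limits.Pi.hom_ext _ _ fun a => by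
      haveI := hmono a
      rw [← cancel_mono (incl (x a)), Category.assoc, Category.assoc]
      simpa [Category.assoc, Limits.Pi.map_π] using congrArg (· ≫ Limits.Pi.π (fun _ : α => V) a) h⟩
    have h1 : l ≫ r = 𝟙 _ := by rw [← cancel_mono (prodIncl incl α x), Category.assoc, hrs, hls, Category.id_comp]
    have h2 : r ≫ l = 𝟙 _ := by rw [← cancel_mono s, Category.assoc, hls, hrs, Category.id_comp]
    let E : (∏ᶜ fun b => Uf (x b)).left.left ≅ (O x).toScheme :=
      { hom := l.left.left
        inv := r.left.left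
        hom_inv_id := congrArg (fun q : (∏ᶜ fun b => Uf (x b)) ⟶ _ => q.left.left) h1
        inv_hom_id := congrArg (fun q : S ⟶ _ => q.left.left) h2 }
    have hE : E.hom ≫ (O x).ι = (prodIncl incl α x).left.left :=
      congrArg (fun q : (∏ᶜ fun b => Uf (x b)) ⟶ W => q.left.left) hls
    constructor
    · rw [← hE]
      haveI : IsIso E.hom := ⟨E.inv, E.hom_inv_id, E.inv_hom_id⟩
      haveI : IsOpenImmersion E.hom := IsOpenImmersion.of_isIso E.hom
      exact MorphismProperty.comp_mem @IsOpenImmersion _ _ inferInstance (inferInstance : IsOpenImmersion (O x).ι)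
    · rw [← hE]
      refine Set.Subset.antisymm ?_ ?_
      · rintro _ ⟨z, rfl⟩
        exact (E.hom z).2
      · intro w hw
        refine ⟨E.inv ⟨w, hw⟩, ?_⟩
        rw [← Scheme.Hom.comp_apply, E.inv_hom_id_assoc]
        rfl
  refine ⟨fun x => (key x).1, fun x y a b h => ?_, fun w => ?_⟩
  · funext c
    refine hdisj (x c) (y c) _ _ ((hval x c a).symm.trans ((congrArg (π c) h).trans (hval y c b)))
  · choose x z hz using fun a => hcov (π a w)
    obtain ⟨a, ha⟩ := (key x).2.ge (show w ∈ (O x : Set W.left.left) from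
      Set.mem_iInter.2 fun a => ⟨z a, hz a⟩)
    exact ⟨x, a, ha⟩

omit α in
theorem nonempty_iso (hV : IsColimit (Cofan.mk V.left.left fun i => (incl i).left.left)) :
    Nonempty (EtCech.cechComplex Uf F.obj ≅ EtCech.cechComplex (fun _ : PUnit.{u + 2} => V) F.obj) := by
  let E : FormalCoproduct.{u + 1} (Over U) := FormalCoproduct.mk _ Uf
  let E' : FormalCoproduct.{u + 1} (Over U) := FormalCoproduct.mk PUnit.{u + 2} fun _ => V
  let f : E ⟶ E' := ⟨fun _ => PUnit.unit, fun i => incl i⟩
  let P : (Over U)ᵒᵖ ⥤ AddCommGrpCat.{u + 1} := (Over.forget U).op ⋙ F.obj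
  let Pe := (FormalCoproduct.evalOp.{u + 1} (Over U) AddCommGrpCat.{u + 1}).obj P
  let θ : E'.cech.rightOp ⋙ Pe ⟶ E.cech.rightOp ⋙ Pe :=
    Functor.whiskerRight (NatTrans.rightOp (FormalCoproduct.cechFunctor.map f)) Pe
  haveI : ∀ n, IsIso (θ.app n) := fun n => by
    let α : Type := ToType n
    obtain ⟨hopen, hdisj, hcov⟩ := prodIncl_facts incl α hV
    have hb := bijective_pi F (fun x => (prodIncl incl α x).left) hopen hdisj hcov
    rw [ConcreteCategory.isIso_iff_bijective]
    show Function.Bijective (Pe.map ((FormalCoproduct.powerMap f α).op))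
    let A := fun x : α → ι => P.obj (op (∏ᶜ fun a => Uf (x a)))
    let B := fun y : α → PUnit.{u + 2} => P.obj (op (∏ᶜ fun _ : α => V))
    have hfac : ⇑(Pe.map (FormalCoproduct.powerMap f α).op) =
        (Concrete.productEquiv A).symm ∘ (fun (s : F.obj.obj (op (∏ᶜ fun _ : α => V).left)) x =>
          F.obj.map (prodIncl incl α x).left.op s) ∘ (fun p => Concrete.productEquiv B p fun _ => PUnit.unit) := by
      funext p
      refine (Concrete.productEquiv A).injective (funext fun x => ?_)
      refine Eq.trans ?_ (congrFun ((Concrete.productEquiv A).apply_symm_apply _) x).symm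
      show Concrete.productEquiv A _ x = F.obj.map (prodIncl incl α x).left.op (Concrete.productEquiv B p fun _ => PUnit.unit)
      rw [Concrete.productEquiv_apply_apply, Concrete.productEquiv_apply_apply]
      refine Eq.trans (ConcreteCategory.comp_apply _ _ _).symm ?_
      refine (ConcreteCategory.congr_hom (Limits.Pi.lift_π _ x) p).trans ?_
      exact ConcreteCategory.comp_apply _ _ _
    rw [hfac]
    refine (Equiv.bijective _).comp (hb.comp ?_)
    refine ⟨fun p q h => (Concrete.productEquiv B).injective (funext fun y => ?_), fun s => ?_⟩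
    · rw [Subsingleton.elim y fun _ => PUnit.unit]; exact h
    · exact ⟨(Concrete.productEquiv B).symm fun _ => s, congrFun ((Concrete.productEquiv B).apply_symm_apply _) _⟩
  haveI : IsIso θ := NatIso.isIso_of_isIso_app θ
  exact ⟨((AlgebraicTopology.alternatingCofaceMapComplex AddCommGrpCat.{u + 1}).mapIso (asIso θ)).symm⟩

end Groth.Agent.CechUnion24
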